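import Cfsg.Agent.H915.Gs.SL2W
import Cfsg.Agent.Nodes.RGDFoldSL

/-!
# Automorphisms mapping `θ (up t)` to `θ (lo (c * σ t))` (S4327, short root groups), helper38

* `ker_low` : the kernel of a homomorphism of `SL₂(K)` injective on the upper unitriangular matrices;
* `fix_of_swap` : `a² = 1`, `a (θ (up t)) = θ (lo (c * σ t))` imply `σ c = c`;
* `reach_five`, `reach_four` : five (four) conjugates of `a` reach the image of `θ`.
-/

set_option autoImplicit false

namespace Cfsg.Agent.H38.Gs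

open Cfsg.Agent.ChevalleyStructure.SL2Hom (up lo)
open Cfsg.Agent.Nodes.RGDFoldSL (wS hS coe_wS coe_hS)
open Cfsg.Agent.H915.Gs (Reach Reach₁ im Gn)

variable {K : Type*} [Field K] {Γ : Type*} [Group Γ]

theorem up_eq (t : K) : (up t : Matrix.SpecialLinearGroup (Fin 2) K) = Cfsg.Agent.LieClassical.SLTwoUnipotent.u t := rfl

theorem lo_eq (t : K) : (lo t : Matrix.SpecialLinearGroup (Fin 2) K) = Cfsg.Agent.LieClassical.SLTwoUnipotent.l t := rfl

theorem up_add (a b : K) : (up (a + b) : Matrix.SpecialLinearGroup (Fin 2) K) = up a * up b := by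
  rw [up_eq, up_eq, up_eq, Cfsg.Agent.LieClassical.SLTwoUnipotent.u_add]

theorem lo_add (a b : K) : (lo (a + b) : Matrix.SpecialLinearGroup (Fin 2) K) = lo a * lo b := by
  rw [lo_eq, lo_eq, lo_eq, Cfsg.Agent.LieClassical.SLTwoUnipotent.l_add]

theorem up_zero : (up 0 : Matrix.SpecialLinearGroup (Fin 2) K) = 1 := by
  rw [up_eq, Cfsg.Agent.LieClassical.SLTwoUnipotent.u_zero]

theorem lo_zero : (lo 0 : Matrix.SpecialLinearGroup (Fin 2) K) = 1 := by
  rw [lo_eq, Cfsg.Agent.LieClassical.SLTwoUnipotent.l_zero]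

theorem up_neg (a : K) : (up (-a) : Matrix.SpecialLinearGroup (Fin 2) K) = (up a)⁻¹ := by
  rw [up_eq, up_eq, Cfsg.Agent.LieClassical.SLTwoUnipotent.u_neg]

theorem lo_neg (a : K) : (lo (-a) : Matrix.SpecialLinearGroup (Fin 2) K) = (lo a)⁻¹ := by
  rw [lo_eq, lo_eq, Cfsg.Agent.LieClassical.SLTwoUnipotent.l_neg]

theorem coe_up (t : K) : (up t : Matrix.SpecialLinearGroup (Fin 2) K).1 = !![1, t; 0, 1] := rfl

theorem coe_lo (t : K) : (lo t : Matrix.SpecialLinearGroup (Fin 2) K).1 = !![1, 0; t, 1] := rfl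

/-- `w up(a) = lo(-a) w` -/
theorem wS_up (a : K) : (wS 1 * up a : Matrix.SpecialLinearGroup (Fin 2) K) = lo (-a) * wS 1 := by
  apply Subtype.ext
  rw [Matrix.SpecialLinearGroup.coe_mul, Matrix.SpecialLinearGroup.coe_mul, coe_wS one_ne_zero]
  change !![0, 1; -(1 : K)⁻¹, 0] * !![1, a; 0, 1] = !![1, 0; -a, 1] * !![0, 1; -(1 : K)⁻¹, 0]
  ext i j
  fin_cases i <;> fin_cases j <;> simp

/-- `h(d) up(a) = up(d² a) h(d)` -/
theorem hS_up {d : K} (hd : d ≠ 0) (a : K) :
    (hS d * up a : Matrix.SpecialLinearGroup (Fin 2) K) = up (d ^ 2 * a) * hS d := by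
  apply Subtype.ext
  rw [Matrix.SpecialLinearGroup.coe_mul, Matrix.SpecialLinearGroup.coe_mul, coe_hS hd]
  change !![d, 0; 0, d⁻¹] * !![1, a; 0, 1] = !![1, d ^ 2 * a; 0, 1] * !![d, 0; 0, d⁻¹]
  ext i j
  fin_cases i <;> fin_cases j
  · simp
  · simp
    field_simp
  · simp
  · simp

/-- **The kernel.** -/
theorem ker_low {θ : Matrix.SpecialLinearGroup (Fin 2) K →* Γ} (hinj : Function.Injective fun t => θ (up t))
    (h4 : ∃ d : K, d ≠ 0 ∧ d ^ 2 ≠ 1) {z : Matrix.SpecialLinearGroup (Fin 2) K} (hz : θ z = 1) : z.1 1 0 = 0 := by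
  by_contra h0
  obtain ⟨d, hd0, hd⟩ := h4
  have hdet : z.1 0 0 * z.1 1 1 - z.1 0 1 * z.1 1 0 = 1 := by rw [← Matrix.det_fin_two]; exact z.2
  -- `θ (lo r) = θ (up s)`
  obtain ⟨y, hy⟩ : ∃ y, y = z.1 1 0 := ⟨_, rfl⟩
  rw [← hy] at h0 hdet
  -- `z = up (x) * m * up (x')`, `m = !![0, -y⁻¹; y, 0]`
  obtain ⟨m, hm⟩ : ∃ m : Matrix.SpecialLinearGroup (Fin 2) K, m.1 = !![0, -y⁻¹; y, 0] :=
    ⟨⟨!![0, -y⁻¹; y, 0], by rw [Matrix.det_fin_two_of]; field_simp; ring⟩, rfl⟩
  obtain ⟨x, x', hzm⟩ : ∃ x x' : K, z = up x * m * up x' := by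
    refine ⟨z.1 0 0 / y, z.1 1 1 / y, ?_⟩
    apply Subtype.ext
    rw [Matrix.SpecialLinearGroup.coe_mul, Matrix.SpecialLinearGroup.coe_mul, hm, coe_up, coe_up]
    ext i j
    fin_cases i <;> fin_cases j
    · simp [Matrix.mul_apply, Fin.sum_univ_two]
      field_simp
    · simp [Matrix.mul_apply, Fin.sum_univ_two]
      field_simp
      linear_combination -hdet
    · simp [Matrix.mul_apply, Fin.sum_univ_two, hy]
    · simp [Matrix.mul_apply, Fin.sum_univ_two]
      field_simp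
  have hmu : θ m = θ (up (-x + -x')) := by
    have h1 : m = up (-x) * z * up (-x') := by
      rw [hzm, up_neg, up_neg]
      group
    rw [h1, map_mul, map_mul, hz, mul_one, up_add, map_mul]
  -- `m` commutes with `up s` modulo the kernel
  have h2 : ∀ s, θ (m * up s) = θ (up s * m) := by
    intro s
    rw [map_mul, map_mul, hmu, ← map_mul, ← map_mul, ← up_add, ← up_add, add_comm]
  have h3 : ∀ s, m * up s = lo (-(y ^ 2 * s)) * m := by
    intro s
    apply Subtype.ext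
    rw [Matrix.SpecialLinearGroup.coe_mul, Matrix.SpecialLinearGroup.coe_mul, hm, coe_up, coe_lo]
    ext i j
    fin_cases i <;> fin_cases j
    · simp
    · simp
    · simp
    · simp
      field_simp
  have h4 : ∀ s, θ (lo (-(y ^ 2 * s))) = θ (up s) := by
    intro s
    have h5 := h2 s
    rw [h3, map_mul, map_mul] at h5
    exact mul_right_cancel h5
  -- all `lo` commute with all `up` in the image
  have h5 : ∀ r s, θ (lo r) * θ (up s) = θ (up s) * θ (lo r) := by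
    intro r s
    have h6 : lo r = (lo (-(y ^ 2 * (-(r / y ^ 2)))) : Matrix.SpecialLinearGroup (Fin 2) K) := by
      congr 1
      field_simp
    rw [h6, h4, ← map_mul, ← map_mul, ← up_add, ← up_add, add_comm]
  -- the image is abelian
  have h6 : ∀ s, θ (hS d) * θ (up s) = θ (up s) * θ (hS d) := by
    intro s
    have hw : ∀ t, θ (wS t) * θ (up s) = θ (up s) * θ (wS t) := by
      intro t
      have h7 : ∀ a, θ (up a) * θ (up s) = θ (up s) * θ (up a) := by
        intro a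
        rw [← map_mul, ← map_mul, ← up_add, ← up_add, add_comm]
      unfold wS
      rw [map_mul, map_mul, mul_assoc, mul_assoc, h7, ← mul_assoc (θ (lo _)), h5, mul_assoc (θ (up s)), ← mul_assoc, h7,
        mul_assoc]
    unfold hS
    rw [map_mul, mul_assoc, hw, ← mul_assoc, hw, mul_assoc]
  have h7 := h6 1
  rw [← map_mul, hS_up hd0, map_mul] at h7
  have h8 := mul_right_cancel h7
  have h9 : d ^ 2 * 1 = (1 : K) := hinj h8
  rw [mul_one] at h9
  exact hd h9

/-- **involutions**: `σ c = c` -/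
theorem fix_of_swap {θ : Matrix.SpecialLinearGroup (Fin 2) K →* Γ} (hinj : Function.Injective fun t => θ (up t))
    (h4 : ∃ d : K, d ≠ 0 ∧ d ^ 2 ≠ 1) {a : MulAut Γ} (ha : a * a = 1) {c : K} (hc : c ≠ 0) {σ : K ≃+* K}
    (h : ∀ t, a (θ (up t)) = θ (lo (c * σ t))) : σ c = c := by
  have hlo : ∀ s, a (θ (lo s)) = θ (up (σ.symm (c⁻¹ * s))) := by
    intro s
    have h1 : lo s = (lo (c * σ (σ.symm (c⁻¹ * s))) : Matrix.SpecialLinearGroup (Fin 2) K) := by
      rw [RingEquiv.apply_symm_apply, mul_inv_cancel_left₀ hc]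
    rw [h1, ← h, ← MulAut.mul_apply, ha]
    rfl
  obtain ⟨e, he⟩ : ∃ e, e = σ.symm c⁻¹ := ⟨_, rfl⟩
  obtain ⟨g, hg⟩ : ∃ g : Matrix.SpecialLinearGroup (Fin 2) K, g = lo c * (up (-e) * lo c) := ⟨_, rfl⟩
  have hag : a (θ (wS 1)) = θ g := by
    have h1 : σ.symm (c⁻¹ * (-(1 : K)⁻¹)) = -e := by
      rw [inv_one, mul_neg, mul_one, map_neg, he]
    unfold wS
    rw [map_mul, map_mul, map_mul, map_mul, h, hlo, h1, map_one, mul_one, ← map_mul, ← map_mul, hg]
  obtain ⟨s, hs⟩ : ∃ s, s = σ.symm (c⁻¹ * -e) := ⟨_, rfl⟩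
  have h1 : θ (g * lo 1) = θ (up s * g) := by
    have h2 := congrArg (fun x => a (θ x)) (wS_up e)
    simp only [map_mul] at h2
    rw [hag, h, hlo, ← hs, he, RingEquiv.apply_symm_apply, mul_inv_cancel₀ hc] at h2
    rw [map_mul, map_mul]
    exact h2
  obtain ⟨z, hz⟩ : ∃ z, z = g * lo 1 * (up s * g)⁻¹ := ⟨_, rfl⟩
  have hz1 : θ z = 1 := by
    rw [hz, map_mul, h1, map_inv, mul_inv_cancel]
  have hz0 := ker_low hinj h4 hz1
  have hzg : z * (up s * g) = g * lo 1 := by rw [hz, inv_mul_cancel_right]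
  have hg11 : g.1 1 1 = 1 - c * e := by
    rw [hg, Matrix.SpecialLinearGroup.coe_mul, Matrix.SpecialLinearGroup.coe_mul, coe_lo, coe_up]
    simp [Matrix.mul_apply, Fin.sum_univ_two]
    ring
  have e1 := congrArg (fun x : Matrix.SpecialLinearGroup (Fin 2) K => x.1 1 1) hzg
  have e2 := congrArg (fun x : Matrix.SpecialLinearGroup (Fin 2) K => x.1 1 0) hzg
  have hU0 : (up s : Matrix.SpecialLinearGroup (Fin 2) K).1 1 0 = 0 := by simp [coe_up]
  have hU1 : (up s : Matrix.SpecialLinearGroup (Fin 2) K).1 1 1 = 1 := by simp [coe_up]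
  have hL0 : (lo 1 : Matrix.SpecialLinearGroup (Fin 2) K).1 0 1 = 0 := by simp [coe_lo]
  have hL1 : (lo 1 : Matrix.SpecialLinearGroup (Fin 2) K).1 1 1 = 1 := by simp [coe_lo]
  have hL2 : (lo 1 : Matrix.SpecialLinearGroup (Fin 2) K).1 0 0 = 1 := by simp [coe_lo]
  have hL3 : (lo 1 : Matrix.SpecialLinearGroup (Fin 2) K).1 1 0 = 1 := by simp [coe_lo]
  have mulE : ∀ (A B : Matrix.SpecialLinearGroup (Fin 2) K) (i j : Fin 2), (A * B).1 i j = A.1 i 0 * B.1 0 j + A.1 i 1 * B.1 1 j := by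
    intro A B i j
    rw [Matrix.SpecialLinearGroup.coe_mul, Matrix.mul_apply, Fin.sum_univ_two]
  simp only [mulE, hU0, hU1, hL0, hL1, hL2, hL3, hz0, zero_mul, zero_add, mul_one, mul_zero, one_mul, add_zero] at e1 e2
  have h3 : g.1 1 1 = 0 := by
    by_contra h7
    have h8 : z.1 1 1 = 1 := mul_right_cancel₀ h7 (e1.trans (one_mul _).symm)
    rw [h8, one_mul] at e2
    apply h7
    linear_combination -e2
  rw [hg11] at h3
  have h5 : e = c⁻¹ := by
    rw [eq_comm, inv_eq_iff_eq_inv]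
    have h6 : c * e = 1 := by linear_combination -h3
    exact eq_inv_of_mul_eq_one_left h6
  rw [he] at h5
  have h6 := congrArg σ h5
  rw [RingEquiv.apply_symm_apply, map_inv₀] at h6
  exact (inv_injective h6).symm

/-- conjugate automorphisms -/
theorem reach_conj {a : MulAut Γ} {y : Γ} {k : ℕ} {J : Subgroup Γ}
    (h : Reach (MulAut.conj y * a * (MulAut.conj y)⁻¹) k J) : Reach a k J := by
  obtain ⟨f, hf⟩ := h
  refine ⟨fun i => f i * y, hf.trans (le_of_eq ?_)⟩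
  unfold Gn
  congr 1
  congr 1
  funext i
  rw [map_mul]
  group

theorem sq_eq_one_iff_of_side {d : K} (_hd : d ≠ 0) (h : d ^ 2 = 1) : d = 1 ∨ d = -1 := by
  have h1 : (d - 1) * (d + 1) = 0 := by linear_combination h
  rcases mul_eq_zero.1 h1 with h2 | h2
  · exact Or.inl (sub_eq_zero.1 h2)
  · exact Or.inr (eq_neg_of_add_eq_zero_left h2)

theorem exists_sq_ne [Fintype K] (h4 : 4 ≤ Fintype.card K) : ∃ d : K, d ≠ 0 ∧ d ^ 2 ≠ 1 := by
  classical
  by_contra hcon
  push Not at hcon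
  have h1 : (Finset.univ : Finset K) ⊆ {0, 1, -1} := by
    intro d _
    by_cases hd : d = 0
    · simp [hd]
    · rcases sq_eq_one_iff_of_side hd (hcon d hd) with h | h <;> simp [h]
  have h2 := Finset.card_le_card h1
  have h3 : ({0, 1, -1} : Finset K).card ≤ 3 := Finset.card_le_three
  rw [Finset.card_univ] at h2
  omega

/-- **START.** -/
theorem reach_main [Fintype K] (h4 : 4 ≤ Fintype.card K) {a : MulAut Γ} {m : ℕ} (hm : m.Prime) (ham : a ^ m = 1)
    {θ : Matrix.SpecialLinearGroup (Fin 2) K →* Γ} (hinj : Function.Injective fun t => θ (up t)) {c : K} (hc : c ≠ 0)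
    {σ : K ≃+* K} (hσ : σ ^ m = 1) (h : ∀ t, a (θ (up t)) = θ (lo (c * σ t))) :
    Reach a 5 θ.range ∧ (Fintype.card K ≠ 9 → Reach a 4 θ.range) := by
  rcases hm.eq_two_or_odd' with h2 | h2
  · subst h2
    by_cases hσ1 : σ = 1
    · have h5 := Cfsg.Agent.H915.Gs.sl2w_three' h4 hc h (n := 1) odd_one (by rw [pow_one, hσ1])
      exact ⟨h5.reach.mono (by norm_num) (by norm_num), fun _ => h5.reach⟩
    · have hσc := fix_of_swap hinj (exists_sq_ne h4) (by rw [← sq]; exact ham) hc h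
      rw [sq] at hσ
      exact ⟨(Cfsg.Agent.H915.Gs.sl2w_four' hc h hσ1 hσ hσc).reach,
        fun h9 => (Cfsg.Agent.H915.Gs.sl2w_two h9 hc h hσ1 hσ hσc).reach⟩
  · have h5 := Cfsg.Agent.H915.Gs.sl2w_three' h4 hc h h2 hσ
    exact ⟨h5.reach.mono (by norm_num) (by norm_num), fun _ => h5.reach⟩

end Cfsg.Agent.H38.Gs
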