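import Cfsg.Agent.H38.Gs.SLTwo
import Cfsg.Agent.H441.GS.Semi

/-!
# START for the root groups of a node (S4327, short root groups), helper38

* `central_of_normalize` : a `p`-group which normalises a root group with coordinates and is normalised by `T` centralises it;
* `exists_semi_node` : `α ~ inn (k b) β`, `k` over the reflection in `ρ`, mapping `X ρ` to `X (-ρ)`:
  a conjugate of `α` maps `Φ (up t)` to `Φ (lo (c * σ t))`;
* `start_node` : five (four) conjugates of `α` reach `⟨X ρ, X (-ρ)⟩`.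
-/

set_option autoImplicit false
set_option linter.unusedSectionVars false

namespace Cfsg.Agent.H38.Gs

open CoxeterSystem Cfsg.Agent.ChevalleyStructure.CoxeterGeom Cfsg.Agent.Tits.Roots Cfsg.Agent.Tits.Core
  Cfsg.Agent.Tits.Exchange Cfsg.Agent.Nodes.Reps Cfsg.Agent.Nodes.BNOf Cfsg.Agent.Nodes.StabComb
  Cfsg.Agent.Nodes.Bruhat Cfsg.Agent.Nodes.OppDec Cfsg.Agent.Nodes.LeviDec Cfsg.Agent.Nodes.NormalForm
  Cfsg.Agent.Nodes.Coroot Cfsg.Agent.Nodes.PosPair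
open Cfsg.Agent.KFacts.RgdOpp Cfsg.Agent.KFacts.RgdAut Cfsg.Agent.KFacts.RgdDiag Cfsg.Agent.KFacts.RgdRigid
  Cfsg.Agent.KFacts.RgdField
open Cfsg.Agent.ChevalleyStructure.SL2Hom (up lo)
open Cfsg.Agent.Nodes.RGDFoldSL (wS hS coe_wS coe_hS)
open Cfsg.Agent.H915.Gs (Reach Reach₁ im Gn)

section One

variable {Y : Type*} [Group Y] {K : Type*} [Field K] {T Q : Subgroup Y} {x : K → Y} {χ : Y → K}

/-- conjugate coordinates -/
theorem coord_cj (C : Coord T Q x χ) {k : Y} (hk : k ∈ Subgroup.normalizer (T : Set Y)) :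
    Coord T (cj k Q) (fun a => k * x a * k⁻¹) (fun t => χ (k⁻¹ * t * k)) where
  mem y := by
    rw [mem_cj, C.mem]
    constructor
    · rintro ⟨a, ha⟩
      exact ⟨a, by rw [ha]; group⟩
    · rintro ⟨a, rfl⟩
      exact ⟨a, by group⟩
  inj a b hab := C.inj (mul_left_cancel (mul_right_cancel hab))
  add a b := by rw [C.add]; group
  act t ht a := by
    have h1 : k⁻¹ * t * k ∈ T := (Subgroup.mem_normalizer_iff''.1 hk t).1 ht
    rw [← C.act _ h1]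
    group
  span := by
    rw [← C.span]
    congr 1
    ext a
    constructor
    · rintro ⟨t, ht, rfl⟩
      exact ⟨_, (Subgroup.mem_normalizer_iff''.1 hk t).1 ht, rfl⟩
    · rintro ⟨t, ht, rfl⟩
      refine ⟨k * t * k⁻¹, (Subgroup.mem_normalizer_iff.1 hk t).1 ht, ?_⟩
      dsimp only
      congr 1
      group

/-- **A `p`-group normalising a root group centralises it.** -/
theorem central_of_normalize [Finite Y] {p : ℕ} [Fact p.Prime] (C : Coord T Q x χ) {P : Subgroup Y} (hP : IsPGroup p P)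
    (hQ : IsPGroup p Q) (hPQ : ∀ u ∈ P, ∀ z ∈ Q, u * z * u⁻¹ ∈ Q) (hTP : ∀ t ∈ T, ∀ u ∈ P, t⁻¹ * u * t ∈ P) :
    ∀ u ∈ P, ∀ z ∈ Q, u * z = z * u := by
  letI : MulAction P Q :=
    { smul := fun u z => ⟨u.1 * z.1 * u.1⁻¹, hPQ u.1 u.2 z.1 z.2⟩
      one_smul := fun z => Subtype.ext (by
        change (1 : Y) * z.1 * (1 : Y)⁻¹ = z.1
        rw [one_mul, inv_one, mul_one])
      mul_smul := fun u v z => Subtype.ext (by
        change (u.1 * v.1) * z.1 * (u.1 * v.1)⁻¹ = u.1 * (v.1 * z.1 * v.1⁻¹) * u.1⁻¹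
        group) }
  have hne : ∃ z ∈ Q, z ≠ 1 := ⟨x 1, (C.mem _).2 ⟨1, rfl⟩, C.ne_one one_ne_zero⟩
  have hdvd : p ∣ Nat.card Q := by
    obtain ⟨m, hm⟩ := (IsPGroup.iff_card (p := p)).1 hQ
    rw [hm]
    refine dvd_pow_self p fun h1 => ?_
    rw [h1, pow_zero] at hm
    obtain ⟨z, hz, hz1⟩ := hne
    have h2 := Subgroup.card_eq_one.1 hm
    rw [h2, Subgroup.mem_bot] at hz
    exact hz1 hz
  have h1 : (1 : Q) ∈ MulAction.fixedPoints P Q := by
    intro u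
    apply Subtype.ext
    change u.1 * (1 : Y) * u.1⁻¹ = 1
    rw [mul_one, mul_inv_cancel]
  obtain ⟨b, hb, hb1⟩ := hP.exists_fixed_point_of_prime_dvd_card_of_fixed_point Q hdvd h1
  obtain ⟨a₀, ha₀⟩ := (C.mem _).1 b.2
  have ha0 : a₀ ≠ 0 := by
    rintro rfl
    apply hb1
    apply Subtype.ext
    rw [← ha₀, C.zero]
    rfl
  -- the fixed points
  have hneg : ∀ a, x (-a) = (x a)⁻¹ := by
    intro a
    rw [eq_inv_iff_mul_eq_one, ← C.add, neg_add_cancel, C.zero]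
  have hS0 : ∀ u ∈ P, u * x a₀ = x a₀ * u := by
    intro u hu
    have h2 := congrArg Subtype.val (hb ⟨u, hu⟩)
    have h3 : u * b.1 * u⁻¹ = b.1 := h2
    rw [ha₀]
    exact mul_inv_eq_iff_eq_mul.1 h3
  have key : ∀ s : K, ∀ u ∈ P, u * x (s * a₀) = x (s * a₀) * u := by
    intro s
    have hs : s ∈ AddSubgroup.closure (χ '' (T : Set Y)) := by rw [C.span]; exact AddSubgroup.mem_top s
    induction hs using AddSubgroup.closure_induction with
    | mem s hs =>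
      obtain ⟨t, ht, rfl⟩ := hs
      intro u hu
      rw [← C.act t ht]
      have h2 := hS0 _ (hTP t ht u hu)
      calc u * (t * x a₀ * t⁻¹) = t * (t⁻¹ * u * t * x a₀) * t⁻¹ := by group
        _ = t * (x a₀ * (t⁻¹ * u * t)) * t⁻¹ := by rw [h2]
        _ = t * x a₀ * t⁻¹ * u := by group
    | zero =>
      intro u _
      rw [zero_mul, C.zero, mul_one, one_mul]
    | add s s' _ _ h2 h3 =>
      intro u hu
      rw [add_mul, C.add, ← mul_assoc, h2 u hu, mul_assoc, h3 u hu, mul_assoc]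
    | neg s _ h2 =>
      intro u hu
      rw [neg_mul, hneg]
      have h3 := h2 u hu
      rw [eq_inv_mul_iff_mul_eq, ← mul_assoc, ← h3, mul_inv_cancel_right]
  intro u hu z hz
  obtain ⟨a, rfl⟩ := (C.mem _).1 hz
  have h2 := key (a / a₀) u hu
  rwa [div_mul_cancel₀ a ha0] at h2

end One

section Node

variable {I W Y : Type*} [Fintype I] [DecidableEq I] [Group W] [Group Y] {M : CoxeterMatrix I}
  {cs : CoxeterSystem M W} {A : I → I → ℤ} {h : IsCartan M A} {p : ℕ} {T : Subgroup Y} {n : I → Y}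
  {X : (I → ℤ) → Subgroup Y}

theorem hat_one (hσ : ∀ i j, M ((1 : Equiv.Perm I) i) ((1 : Equiv.Perm I) j) = M i j) (w : W) :
    hat cs (1 : Equiv.Perm I) hσ w = w := by
  obtain ⟨ω, rfl⟩ := cs.wordProd_surjective w
  induction ω with
  | nil => rw [wordProd_nil, map_one]
  | cons i ω ih => rw [wordProd_cons, map_mul, ih, hat_simple]; rfl

variable [Finite W] [Finite Y] [Fact p.Prime] (R : RGD cs h p T n X) {K : Type*} [Field K]
  {Φ : Matrix.SpecialLinearGroup (Fin 2) K →* Y} {χ : Y → K} {i : I}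

include R

/-- **The semilinear form.** -/
theorem exists_semi_node (hG : GG cs h T X = ⊤) (C : Coord T (X (sr i)) (fun a => Φ (up a)) χ) (hw : Φ (wS 1) = n i)
    {v : W} {α β : MulAut Y} {y k b : Y} (hk : Rp cs R.nsys (v * cs.simple i * v⁻¹) k) (hb : b ∈ RGD.B cs h T X)
    (D : Diag T X β 1) (hα : MulAut.conj y * α * (MulAut.conj y)⁻¹ = MulAut.conj (k * b) * β)
    (hX : ∀ z ∈ X (rep cs h v (sr i)), (MulAut.conj (k * b) * β) z ∈ X (-rep cs h v (sr i))) :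
    ∃ (y' : Y) (σ : K ≃+* K) (c : K), c ≠ 0 ∧ (∀ m, α ^ m = 1 → σ ^ m = 1) ∧
      ∀ t, (MulAut.conj y' * α * (MulAut.conj y')⁻¹) (Φ (up t)) = Φ (lo (c * σ t)) := by
  obtain ⟨kv, hkv⟩ := exists_rp cs R.nsys v
  have hρ : IsRoot cs h (rep cs h v (sr i)) := (isRoot_sr cs h i).act v
  obtain ⟨ρ, hρdef⟩ : ∃ ρ, ρ = rep cs h v (sr i) := ⟨_, rfl⟩
  rw [← hρdef] at hρ hX
  have hXρ : cj kv (X (sr i)) = X ρ := by rw [hρdef]; exact R.conj_rp hkv (isRoot_sr cs h i)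
  -- `β` on the node
  obtain ⟨τ, c₀, hc₀, hβ, hβχ⟩ := C.exists_semi C D.tor (fun z => D.pos i z)
  -- `β kv = kv t₁`
  have hβkv : Rp cs R.nsys v (β kv) := by
    have e : hat cs (1 : Equiv.Perm I) (fun i j => rfl) v = v := hat_one _ v
    have h1 : Rp cs R.nsys (hat cs (1 : Equiv.Perm I) (fun i j => rfl) v) (β kv) := D.rp' (R := R) (fun i j => rfl) hkv
    rwa [e] at h1
  obtain ⟨t₁, ht₁⟩ : ∃ t₁, t₁ = kv⁻¹ * β kv := ⟨_, rfl⟩
  have ht₁T : t₁ ∈ T := by rw [ht₁]; exact hkv.unique hβkv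
  have hβkv' : β kv = kv * t₁ := by rw [ht₁, mul_inv_cancel_left]
  have hβρ : ∀ z, β z ∈ X ρ ↔ z ∈ X ρ := by
    intro z
    have e : hat cs (1 : Equiv.Perm I) (fun i j => rfl) v = v := hat_one _ v
    have h1 : β z ∈ X (rep cs h (hat cs (1 : Equiv.Perm I) (fun i j => rfl) v) (sr ((1 : Equiv.Perm I) i))) ↔
      z ∈ X (rep cs h v (sr i)) := D.root R (fun i j => rfl) v i z
    rw [e] at h1
    rw [hρdef]
    exact h1
  -- `b = t₂ u`
  obtain ⟨t₂, ht₂, u, hu, rfl⟩ := R.mem_B.1 hb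
  have hkρ : cj k (X ρ) = X (-ρ) := by
    rw [R.conj_rp hk hρ, hρdef, rep_mul_apply, rep_mul_apply, rep_inv_apply, rep_simple_sr, map_neg]
  have hTρ : ∀ t ∈ T, ∀ z, t * z * t⁻¹ ∈ X ρ ↔ z ∈ X ρ := by
    intro t ht z
    have h1 := R.tor ρ hρ t ht
    conv_lhs => rw [← h1]
    exact conj_mem_cj
  have huρ : ∀ z ∈ X ρ, u * z * u⁻¹ ∈ X ρ := by
    intro z hz
    have h1 := hX (β⁻¹ z) ((hβρ _).1 (by rwa [MulAut.apply_inv_self]))
    rw [MulAut.mul_apply, MulAut.apply_inv_self, MulAut.conj_apply, ← hkρ, mem_cj] at h1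
    have h2 : k⁻¹ * (k * (t₂ * u) * z * (k * (t₂ * u))⁻¹) * k = t₂ * (u * z * u⁻¹) * t₂⁻¹ := by group
    rw [h2] at h1
    exact (hTρ t₂ ht₂ _).1 h1
  have huN : u ∈ Subgroup.normalizer (X ρ : Set Y) := by
    rw [mem_normalizer_iff_cj]
    apply Subgroup.eq_of_le_of_card_ge
    · intro z hz
      rw [mem_cj] at hz
      have h1 := huρ _ hz
      have h2 : u * (u⁻¹ * z * u) * u⁻¹ = z := by group
      rwa [h2] at h1
    · exact le_of_eq (Nat.card_congr ((X ρ).equivMapOfInjective _ (MulAut.conj u).injective).toEquiv)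
  -- `u` centralises `X ρ`
  have Cρ : Coord T (X ρ) (fun a => kv * Φ (up a) * kv⁻¹) (fun t => χ (kv⁻¹ * t * kv)) := by
    rw [← hXρ]
    exact coord_cj C hkv.mem_normalizer
  have huc : ∀ z ∈ X ρ, u * z = z * u := by
    obtain ⟨P, hP⟩ : ∃ P : Subgroup Y, P = RGD.Sup X (RGD.Pos cs h) ⊓ Subgroup.normalizer (X ρ : Set Y) := ⟨_, rfl⟩
    have hPU : P ≤ RGD.Sup X (RGD.Pos cs h) := by rw [hP]; exact inf_le_left
    refine central_of_normalize Cρ (P := P) ((R.isPGroup_Upos).to_le hPU) (R.pgrp' hρ) ?_ ?_ u ?_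
    · intro u' hu' z hz
      rw [hP] at hu'
      exact (Subgroup.mem_normalizer_iff.1 hu'.2 z).1 hz
    · intro t ht u' hu'
      rw [hP] at hu' ⊢
      refine ⟨?_, ?_⟩
      · exact (Subgroup.mem_normalizer_iff''.1 (R.T_le_normalizer_U ht) u').1 hu'.1
      · have h1 : t ∈ Subgroup.normalizer (X ρ : Set Y) := mem_normalizer_iff_cj.2 (R.tor ρ hρ t ht)
        exact (Subgroup.normalizer (X ρ : Set Y)).mul_mem
          ((Subgroup.normalizer (X ρ : Set Y)).mul_mem ((Subgroup.normalizer (X ρ : Set Y)).inv_mem h1) hu'.2) h1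
    · rw [hP]
      exact ⟨hu, huN⟩
  -- the elements of `T`
  obtain ⟨t₃, ht₃⟩ : ∃ t₃, t₃ = kv⁻¹ * t₂ * kv := ⟨_, rfl⟩
  have ht₃T : t₃ ∈ T := by rw [ht₃]; exact (Subgroup.mem_normalizer_iff''.1 hkv.mem_normalizer t₂).1 ht₂
  obtain ⟨t₄, ht₄⟩ : ∃ t₄, t₄ = (n i)⁻¹ * (kv⁻¹ * k * kv) := ⟨_, rfl⟩
  have ht₄T : t₄ ∈ T := by
    rw [ht₄]
    have h1 := (hkv.inv.mul hk).mul hkv
    have h2 : v⁻¹ * (v * cs.simple i * v⁻¹) * v = cs.simple i := by group
    rw [h2] at h1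
    exact (rp_simple cs R.nsys i).unique h1
  refine ⟨kv⁻¹ * y, τ, -(χ t₄ * (χ t₃ * (χ t₁ * c₀))), ?_, ?_, ?_⟩
  · exact neg_ne_zero.2 (mul_ne_zero (C.chi_ne_zero ht₄T) (mul_ne_zero (C.chi_ne_zero ht₃T)
      (mul_ne_zero (C.chi_ne_zero ht₁T) hc₀)))
  · -- the order
    intro m hm
    have h1 : β = MulAut.conj (k * (t₂ * u))⁻¹ * (MulAut.conj y * α * (MulAut.conj y)⁻¹) := by
      rw [hα, map_inv, inv_mul_cancel_left]
    obtain ⟨v', hv'⟩ := Cfsg.Agent.H441.GS.conj_pow (k * (t₂ * u))⁻¹ (MulAut.conj y * α * (MulAut.conj y)⁻¹) m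
    rw [← h1, conj_pow, hm, mul_one, mul_inv_cancel, mul_one] at hv'
    have hv'T : v' ∈ T := by
      have h2 := D.pow m
      rw [one_pow, hv'] at h2
      exact Cfsg.Agent.H441.GS.mem_T_of_diag R hG h2
    have h3 : ∀ m : ℕ, ∃ cm : K, ∀ t, (β ^ m) (Φ (up t)) = Φ (up (cm * (τ ^ m) t)) := by
      intro m
      induction m with
      | zero =>
        refine ⟨1, fun t => ?_⟩
        rw [pow_zero, pow_zero, one_mul]
        rfl
      | succ m ih =>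
        obtain ⟨cm, hcm⟩ := ih
        refine ⟨cm * (τ ^ m) c₀, fun t => ?_⟩
        rw [pow_succ, MulAut.mul_apply]
        have h4 : β (Φ (up t)) = Φ (up (c₀ * τ t)) := hβ t
        rw [h4, hcm, map_mul, mul_assoc, pow_succ]
        rfl
    obtain ⟨cm, hcm⟩ := h3 m
    have h4 : ∀ t, cm * (τ ^ m) t = χ v' * t := by
      intro t
      apply C.inj
      change Φ (up (cm * (τ ^ m) t)) = Φ (up (χ v' * t))
      rw [← hcm, hv', MulAut.conj_apply]
      exact C.act v' hv'T t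
    have h5 : cm = χ v' := by
      have := h4 1
      rwa [map_one, mul_one, mul_one] at this
    ext t
    have h6 := h4 t
    rw [h5] at h6
    exact mul_left_cancel₀ (C.chi_ne_zero hv'T) h6
  · intro t
    have e1 : (MulAut.conj (kv⁻¹ * y) * α * (MulAut.conj (kv⁻¹ * y))⁻¹) (Φ (up t)) =
        kv⁻¹ * ((MulAut.conj y * α * (MulAut.conj y)⁻¹) (kv * Φ (up t) * kv⁻¹)) * kv := by
      simp only [MulAut.mul_apply, MulAut.conj_apply, ← map_inv MulAut.conj, map_mul α, map_inv α, mul_inv_rev,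
        inv_inv, mul_assoc]
    have h4 : β (Φ (up t)) = Φ (up (c₀ * τ t)) := hβ t
    have h5 : t₁ * Φ (up (c₀ * τ t)) * t₁⁻¹ = Φ (up (χ t₁ * (c₀ * τ t))) := C.act t₁ ht₁T _
    obtain ⟨s, hs⟩ : ∃ s, s = χ t₁ * (c₀ * τ t) := ⟨_, rfl⟩
    rw [← hs] at h5
    have e2 : β (kv * Φ (up t) * kv⁻¹) = kv * Φ (up s) * kv⁻¹ := by
      rw [map_mul, map_mul, map_inv, hβkv', h4, ← h5]
      group
    have h6 := huc (kv * Φ (up s) * kv⁻¹) ((Cρ.mem _).2 ⟨s, rfl⟩)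
    have h7 : t₃ * Φ (up s) * t₃⁻¹ = Φ (up (χ t₃ * s)) := C.act t₃ ht₃T _
    have h8 : t₄ * Φ (up (χ t₃ * s)) * t₄⁻¹ = Φ (up (χ t₄ * (χ t₃ * s))) := C.act t₄ ht₄T _
    have h9 : n i * Φ (up (χ t₄ * (χ t₃ * s))) * (n i)⁻¹ = Φ (lo (-(χ t₄ * (χ t₃ * s)))) := by
      rw [← hw, ← map_mul, wS_up, map_mul, mul_inv_cancel_right]
    rw [e1, hα, MulAut.mul_apply, e2, MulAut.conj_apply]
    have e3 : kv⁻¹ * (k * (t₂ * u) * (kv * Φ (up s) * kv⁻¹) * (k * (t₂ * u))⁻¹) * kv =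
        kv⁻¹ * k * t₂ * (u * (kv * Φ (up s) * kv⁻¹)) * u⁻¹ * t₂⁻¹ * k⁻¹ * kv := by group
    rw [e3, h6]
    have e4 : kv⁻¹ * k * t₂ * (kv * Φ (up s) * kv⁻¹ * u) * u⁻¹ * t₂⁻¹ * k⁻¹ * kv =
        n i * (t₄ * (t₃ * Φ (up s) * t₃⁻¹) * t₄⁻¹) * (n i)⁻¹ := by
      rw [ht₃, ht₄]
      group
    rw [e4, h7, h8, h9, hs]
    congr 2
    ring

/-- **START for a node.** -/
theorem start_node [Fintype K] (h4 : 4 ≤ Fintype.card K) (hG : GG cs h T X = ⊤)
    (C : Coord T (X (sr i)) (fun a => Φ (up a)) χ) (hw : Φ (wS 1) = n i)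
    {v : W} {α β : MulAut Y} {y k b : Y} (hk : Rp cs R.nsys (v * cs.simple i * v⁻¹) k) (hb : b ∈ RGD.B cs h T X)
    (D : Diag T X β 1) (hα : MulAut.conj y * α * (MulAut.conj y)⁻¹ = MulAut.conj (k * b) * β)
    (hX : ∀ z ∈ X (rep cs h v (sr i)), (MulAut.conj (k * b) * β) z ∈ X (-rep cs h v (sr i)))
    {m : ℕ} (hm : m.Prime) (hαm : α ^ m = 1) :
    Reach α 5 (X (rep cs h v (sr i)) ⊔ X (-rep cs h v (sr i))) ∧
      (Fintype.card K ≠ 9 → Reach α 4 (X (rep cs h v (sr i)) ⊔ X (-rep cs h v (sr i)))) := by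
  obtain ⟨y', σ, c, hc, hσ, h1⟩ := exists_semi_node R hG C hw hk hb D hα hX
  have h2 : (MulAut.conj y' * α * (MulAut.conj y')⁻¹) ^ m = 1 := by
    rw [conj_pow, hαm, mul_one, mul_inv_cancel]
  obtain ⟨h3, h5⟩ := reach_main h4 hm h2 (θ := Φ) C.inj hc (hσ m hαm) h1
  have h6 : X (sr i) ⊔ X (-sr i) ≤ Φ.range := by
    refine sup_le (fun z hz => ?_) (fun z hz => ?_)
    · obtain ⟨a, rfl⟩ := (C.mem z).1 hz
      exact ⟨_, rfl⟩
    · have h7 : (n i)⁻¹ * z * n i ∈ X (sr i) := by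
        have h8 := R.conj i (sr i) (isRoot_sr cs h i)
        rw [rep_simple_sr] at h8
        rw [← h8, mem_cj] at hz
        exact hz
      obtain ⟨a, ha⟩ := (C.mem _).1 h7
      have ha' : Φ (up a) = (n i)⁻¹ * z * n i := ha
      refine ⟨wS 1 * up a * (wS 1)⁻¹, ?_⟩
      rw [map_mul, map_mul, map_inv, hw, ha']
      group
  have h7 : ∀ N, Reach (MulAut.conj y' * α * (MulAut.conj y')⁻¹) N Φ.range →
      Reach α N (X (rep cs h v (sr i)) ⊔ X (-rep cs h v (sr i))) := by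
    intro N hN
    obtain ⟨kv, hkv⟩ := exists_rp cs R.nsys v
    have h8 := ((reach_conj hN).sub h6).conj kv
    have h9 : cj kv (X (sr i) ⊔ X (-sr i)) = X (rep cs h v (sr i)) ⊔ X (-rep cs h v (sr i)) := by
      rw [cj_sup, R.conj_rp hkv (isRoot_sr cs h i), R.conj_rp hkv (isRoot_sr cs h i).neg, map_neg]
    rw [← h9]
    exact h8
  exact ⟨h7 5 h3, fun h9 => h7 4 (h5 h9)⟩

end Node

end Cfsg.Agent.H38.Gs
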